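import Mathlib

/-!
Bounds of a group order by its `p`-part, from order formulas.
-/

set_option autoImplicit false

namespace CfsgLib.LieOrderBound

open Finset

/-- The two bounds on an order `g` in terms of its `p`-part. -/
def Bound (p g : ℕ) : Prop :=
  g < p ^ (3 * g.factorization p) ∧ g ^ 3 < p ^ (8 * g.factorization p)

variable {p f q : ℕ}

theorem one_lt_q (hp : p.Prime) (hf : 1 ≤ f) (hq : q = p ^ f) : 1 < q := by
  subst hq
  exact Nat.one_lt_pow (by omega) hp.one_lt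

theorem not_dvd_sub_one (hp : p.Prime) (hf : 1 ≤ f) (hq : q = p ^ f) {i : ℕ} (hi : 1 ≤ i) :
    ¬ p ∣ q ^ i - 1 := fun h => by
  have hd : p ∣ q ^ i := (show p ∣ q by rw [hq]; exact dvd_pow_self p (by omega)).trans
    (dvd_pow_self q (by omega))
  have h1 : 1 ≤ q ^ i := Nat.one_le_pow _ _ (by have := one_lt_q hp hf hq; omega)
  have := (Nat.dvd_sub_iff_right h1 hd).1 h
  exact hp.one_lt.ne' (Nat.dvd_one.1 this)

theorem not_dvd_add_one (hp : p.Prime) (hf : 1 ≤ f) (hq : q = p ^ f) {i : ℕ} (hi : 1 ≤ i) :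
    ¬ p ∣ q ^ i + 1 := fun h => by
  have hd : p ∣ q ^ i := (show p ∣ q by rw [hq]; exact dvd_pow_self p (by omega)).trans
    (dvd_pow_self q (by omega))
  exact hp.one_lt.ne' (Nat.dvd_one.1 ((Nat.dvd_add_iff_right hd).2 h))

theorem not_dvd_gcd (a : ℕ) {b : ℕ} (h : ¬ p ∣ b) : ¬ p ∣ Nat.gcd a b := fun h' =>
  h (h'.trans (Nat.gcd_dvd_right _ _))

theorem not_dvd_prod (hp : p.Prime) {α : Type*} {s : Finset α} {g : α → ℕ} (h : ∀ i ∈ s, ¬ p ∣ g i) :
    ¬ p ∣ ∏ i ∈ s, g i := fun hd => by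
  obtain ⟨i, hi, hpi⟩ := (hp.prime.dvd_finsetProd_iff _).1 hd
  exact h i hi hpi

theorem not_dvd_mul (hp : p.Prime) {a b : ℕ} (ha : ¬ p ∣ a) (hb : ¬ p ∣ b) : ¬ p ∣ a * b := fun h =>
  (hp.dvd_mul.1 h).elim ha hb

variable {g d M N E : ℕ}

theorem factorization_eq (hp : p.Prime) (hq : q = p ^ f) (hd : ¬ p ∣ d) (hM : ¬ p ∣ M)
    (h : d * g = q ^ N * M) : g.factorization p = f * N := by
  have hd0 : d ≠ 0 := fun e => hd (e ▸ dvd_zero p)
  have hM0 : M ≠ 0 := fun e => hM (e ▸ dvd_zero p)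
  have hpow : q ^ N = p ^ (f * N) := by rw [hq, ← pow_mul]
  have hg0 : g ≠ 0 := fun e => by
    rw [e, mul_zero] at h
    rcases mul_eq_zero.1 h.symm with h' | h'
    · rw [hpow] at h'; exact absurd h' (pow_ne_zero _ hp.ne_zero)
    · exact hM0 h'
  have e := congrArg (fun x => x.factorization p) h
  rw [hpow] at e
  rw [Nat.factorization_mul hd0 hg0, Nat.factorization_mul (pow_ne_zero _ hp.ne_zero) hM0,
    Finsupp.add_apply, Finsupp.add_apply, Nat.factorization_eq_zero_of_not_dvd hd,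
    Nat.factorization_eq_zero_of_not_dvd hM, hp.factorization_pow, Finsupp.single_eq_same] at e
  omega

theorem le_of_formula (hd : ¬ p ∣ d) (h : d * g = q ^ N * M) : g ≤ q ^ N * M :=
  h ▸ Nat.le_mul_of_pos_left g (Nat.pos_of_ne_zero fun e => hd (e ▸ dvd_zero p))

theorem lt_of_formula (hp : p.Prime) (hf : 1 ≤ f) (hq : q = p ^ f) (hd : ¬ p ∣ d) (hM : ¬ p ∣ M)
    (h : d * g = q ^ N * M) (hlt : M < q ^ E) (h2 : E ≤ 2 * N) :
    g < p ^ (3 * g.factorization p) := by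
  have h1 := one_lt_q hp hf hq
  rw [factorization_eq hp hq hd hM h]
  calc g ≤ q ^ N * M := le_of_formula hd h
    _ < q ^ N * q ^ E := Nat.mul_lt_mul_of_pos_left hlt (pow_pos (by omega) _)
    _ ≤ q ^ (3 * N) := by rw [← pow_add]; exact Nat.pow_le_pow_right h1.le (by omega)
    _ = p ^ (3 * (f * N)) := by rw [hq, ← pow_mul]; ring_nf

theorem bound_of_formula (hp : p.Prime) (hf : 1 ≤ f) (hq : q = p ^ f) (hd : ¬ p ∣ d) (hM : ¬ p ∣ M)
    (h : d * g = q ^ N * M) (hlt : M < q ^ E) (h2 : E ≤ 2 * N) (h3 : 3 * E ≤ 5 * N) : Bound p g := by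
  have h1 := one_lt_q hp hf hq
  refine ⟨lt_of_formula hp hf hq hd hM h hlt h2, ?_⟩
  rw [factorization_eq hp hq hd hM h]
  calc g ^ 3 ≤ (q ^ N * M) ^ 3 := Nat.pow_le_pow_left (le_of_formula hd h) 3
    _ < (q ^ N * q ^ E) ^ 3 := Nat.pow_lt_pow_left
        (Nat.mul_lt_mul_of_pos_left hlt (pow_pos (by omega) _)) (by norm_num)
    _ ≤ q ^ (8 * N) := by rw [← pow_add, ← pow_mul]; exact Nat.pow_le_pow_right h1.le (by omega)
    _ = p ^ (8 * (f * N)) := by rw [hq, ← pow_mul]; ring_nf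

/-! ### Bounds of products -/

theorem sub_one_lt (h1 : 1 < q) (i : ℕ) : q ^ i - 1 < q ^ i :=
  Nat.sub_lt (pow_pos (by omega) _) one_pos

theorem pair_lt (h1 : 1 < q) {a b : ℕ} (hab : b ≤ a) :
    (q ^ a + 1) * (q ^ b - 1) < q ^ (a + b) := by
  have hb : 1 ≤ q ^ b := Nat.one_le_pow _ _ (by omega)
  have hle : q ^ b ≤ q ^ a := Nat.pow_le_pow_right h1.le hab
  rw [pow_add, Nat.mul_sub, Nat.add_mul, one_mul, mul_one]
  have : q ^ b ≤ q ^ a * q ^ b := Nat.le_mul_of_pos_left _ (pow_pos (by omega) _)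
  omega

theorem prod_sub_one_lt (h1 : 1 < q) {α : Type*} {s : Finset α} (hs : s.Nonempty) {e : α → ℕ} :
    ∏ i ∈ s, (q ^ e i - 1) < q ^ (∑ i ∈ s, e i) := by
  rw [← Finset.prod_pow_eq_pow_sum]
  by_cases hz : ∃ i ∈ s, q ^ e i - 1 = 0
  · rw [Finset.prod_eq_zero_iff.2 hz]
    exact Finset.prod_pos fun i _ => pow_pos (by omega) _
  · push Not at hz
    exact Finset.prod_lt_prod_of_nonempty (fun i hi => Nat.pos_of_ne_zero (hz i hi))
      (fun i _ => sub_one_lt h1 _) hs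

theorem prod_sub_one_le (h1 : 1 < q) {α : Type*} {s : Finset α} {e : α → ℕ} :
    ∏ i ∈ s, (q ^ e i - 1) ≤ q ^ (∑ i ∈ s, e i) := by
  rw [← Finset.prod_pow_eq_pow_sum]
  exact Finset.prod_le_prod' fun i _ => Nat.sub_le _ _

theorem two_sum_evens (m : ℕ) : ∑ i ∈ range m, 2 * (i + 1) = m * (m + 1) := by
  induction m with
  | zero => simp
  | succ m ih => rw [Finset.sum_range_succ, ih]; ring

theorem two_mul_sum_shift (k : ℕ) : 2 * ∑ i ∈ range k, (i + 2) = k * (k + 3) := by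
  induction k with
  | zero => simp
  | succ k ih => rw [Finset.sum_range_succ, mul_add, ih]; ring

theorem prod_linear (q n : ℕ) :
    ∏ i ∈ range n, (q ^ n - q ^ i) = q ^ n.choose 2 * ∏ i ∈ range n, (q ^ (i + 1) - 1) := by
  induction n with
  | zero => simp
  | succ n ih =>
    rw [Finset.prod_range_succ', Finset.prod_range_succ, pow_zero,
      Finset.prod_congr rfl (g := fun i => q * (q ^ n - q ^ i))
        (fun i _ => by rw [Nat.mul_sub, pow_succ', pow_succ']),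
      Finset.prod_mul_distrib, Finset.prod_const, Finset.card_range, ih,
      Nat.choose_succ_succ, Nat.choose_one_right, pow_add]
    ring

/-- The alternating products in the unitary orders. -/
theorem prod_unitary_lt (h1 : 1 < q) : ∀ k : ℕ, 1 ≤ k →
    ∏ i ∈ range k, (if Even (i + 1) then q ^ (i + 2) + 1 else q ^ (i + 2) - 1) <
      q ^ (∑ i ∈ range k, (i + 2)) := by
  have heven : ∀ l : ℕ, ∏ i ∈ range (2 * l), (if Even (i + 1) then q ^ (i + 2) + 1 else q ^ (i + 2) - 1) ≤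
      q ^ (∑ i ∈ range (2 * l), (i + 2)) ∧ (1 ≤ l →
      ∏ i ∈ range (2 * l), (if Even (i + 1) then q ^ (i + 2) + 1 else q ^ (i + 2) - 1) <
      q ^ (∑ i ∈ range (2 * l), (i + 2))) := by
    intro l
    induction l with
    | zero => simp
    | succ l ih =>
      rw [show 2 * (l + 1) = 2 * l + 1 + 1 by ring, Finset.prod_range_succ, Finset.prod_range_succ,
        Finset.sum_range_succ, Finset.sum_range_succ, if_neg (by simp [parity_simps]),
        if_pos (by simp [parity_simps])]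
      have hlt : (q ^ (2 * l + 2) - 1) * (q ^ (2 * l + 1 + 2) + 1) < q ^ (2 * l + 2 + (2 * l + 1 + 2)) := by
        rw [mul_comm, add_comm (2 * l + 2)]
        exact pair_lt h1 (by omega)
      have := Nat.mul_lt_mul_of_le_of_lt ih.1 hlt (pow_pos (by omega) _)
      rw [← pow_add, ← mul_assoc, ← add_assoc _ (2 * l + 2) (2 * l + 1 + 2)] at this
      exact ⟨this.le, fun _ => this⟩
  intro k hk
  obtain ⟨l, rfl | rfl⟩ := Nat.even_or_odd' k
  · exact (heven l).2 (by omega)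
  · rw [Finset.prod_range_succ, Finset.sum_range_succ, if_neg (by simp [parity_simps]),
      pow_add q (∑ x ∈ range (2 * l), (x + 2)) (2 * l + 2)]
    exact Nat.mul_lt_mul_of_le_of_lt (heven l).1 (sub_one_lt h1 _) (pow_pos (by omega) _)

end CfsgLib.LieOrderBound
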