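import Cfsg.Agent.Lib.LieOrderBound.Basic
import Cfsg.Agent.Lib.Classical.SympOrder
import Cfsg.Agent.Lib.FormRep.Symplectic
import Cfsg.Agent.Lib.Suzuki.LieEquiv
import Cfsg.Agent.Lib.Suzuki.Symp
import Cfsg.Prelude.Def_LieTypeChar
import Cfsg.Agent.S0243
import Cfsg.Agent.S0280
import Cfsg.Agent.S0292
import Cfsg.Agent.S0293
import Cfsg.Agent.S0294
import Cfsg.Agent.S1059
import Cfsg.Agent.S1062
import Cfsg.Agent.S1063
import Cfsg.Agent.S1064
import Cfsg.Agent.S1065
import Cfsg.Agent.S1066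
import Cfsg.Agent.S1067
import Cfsg.Agent.S1068
import Cfsg.Agent.S1069

/-!
The bounds for the sixteen families.
-/

set_option autoImplicit false
set_option linter.style.haveILetI false

namespace CfsgLib.LieOrderBound

open Finset

variable {p : ℕ} {F : Type*} [Field F] [Fintype F] [CharP F p]

theorem exists_field_card : ∃ f, 1 ≤ f ∧ Fintype.card F = p ^ f := by
  obtain ⟨n, -, h⟩ := FiniteField.card F p
  exact ⟨n, n.pos, h⟩

variable (F) in
include F in
theorem prime_char : p.Prime := by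
  obtain ⟨n, h, -⟩ := FiniteField.card F p
  exact h

theorem exists_root_card {q k : ℕ} (hk : k ≠ 0) (hF : Fintype.card F = q ^ k) :
    ∃ f, 1 ≤ f ∧ q = p ^ f := by
  obtain ⟨n, hn, h⟩ := exists_field_card (p := p) (F := F)
  have hd : q ∣ p ^ n := h ▸ hF ▸ dvd_pow_self q hk
  obtain ⟨j, -, rfl⟩ := (Nat.dvd_prime_pow (prime_char F (p := p))).1 hd
  refine ⟨j, Nat.one_le_iff_ne_zero.2 fun e => ?_, rfl⟩
  rw [e, pow_zero, one_pow] at hF
  exact (Fintype.one_lt_card (α := F)).ne' hF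

/-- The bound for `PSL_n`, and the weaker one for `PSL_2`. -/
theorem psl (n : ℕ) (hn : 2 ≤ n) :
    (3 ≤ n → Bound p (Nat.card (Matrix.ProjectiveSpecialLinearGroup (Fin n) F))) ∧
    (Nat.card (Matrix.ProjectiveSpecialLinearGroup (Fin n) F) <
        p ^ (3 * (Nat.card (Matrix.ProjectiveSpecialLinearGroup (Fin n) F)).factorization p)) ∧
    (n = 2 → Fintype.card F =
        p ^ (Nat.card (Matrix.ProjectiveSpecialLinearGroup (Fin n) F)).factorization p) := by
  obtain ⟨f, hf, hq⟩ := exists_field_card (p := p) (F := F)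
  have hp := prime_char F (p := p)
  have h := Cfsg.Agent.S0243.result (F := F) rfl n hn
  generalize Fintype.card F = q at hq h ⊢
  have h1 := one_lt_q hp hf hq
  rw [Fin.prod_univ_eq_prod_range (fun i => q ^ n - q ^ i), prod_linear] at h
  obtain ⟨k, rfl⟩ : ∃ k, n = k + 1 := ⟨n - 1, by omega⟩
  rw [Finset.prod_range_succ', zero_add, pow_one, ← mul_assoc, mul_comm (Nat.gcd _ _), mul_assoc,
    mul_comm _ (q - 1), mul_left_comm (q ^ _) (q - 1), mul_left_cancel_iff_of_pos (by omega : 0 < q - 1)] at h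
  have hd : ¬ p ∣ Nat.gcd (k + 1) (q - 1) := by
    refine not_dvd_gcd _ ?_
    have := not_dvd_sub_one hp hf hq (i := 1) le_rfl
    rwa [pow_one] at this
  have hM : ¬ p ∣ ∏ i ∈ range k, (q ^ (i + 1 + 1) - 1) :=
    not_dvd_prod hp fun i _ => not_dvd_sub_one hp hf hq (by omega)
  have hlt : ∏ i ∈ range k, (q ^ (i + 1 + 1) - 1) < q ^ (∑ i ∈ range k, (i + 2)) :=
    prod_sub_one_lt h1 (Finset.nonempty_range_iff.2 (by omega)) (e := fun i => i + 1 + 1)
  have hS := two_mul_sum_shift k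
  have hC : 2 * (k + 1).choose 2 = (k + 1) * k := by
    rw [Nat.choose_two_right, Nat.add_sub_cancel, Nat.mul_div_cancel']
    exact ((Nat.even_mul_succ_self k).two_dvd).trans (dvd_of_eq (mul_comm _ _))
  obtain ⟨j, rfl⟩ : ∃ j, k = j + 1 := ⟨k - 1, by omega⟩
  have hring : (j + 1) * (j + 1 + 3) = j * j + 5 * j + 4 ∧ (j + 1 + 1) * (j + 1) = j * j + 3 * j + 2 :=
    ⟨by ring, by ring⟩
  refine ⟨fun hn3 => bound_of_formula hp hf hq hd hM h hlt ?_ ?_,
    lt_of_formula hp hf hq hd hM h hlt ?_, fun hn2 => ?_⟩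
  · have := Nat.zero_le (j * j); omega
  · obtain ⟨i, rfl⟩ : ∃ i, j = i + 1 := ⟨j - 1, by omega⟩
    have : (i + 1) * (i + 1) = i * i + 2 * i + 1 := by ring
    omega
  · have := Nat.zero_le (j * j); omega
  · rw [factorization_eq hp hq hd hM h, hq, show (j + 1 + 1).choose 2 = 1 by
      rw [show j = 0 by omega]; rfl, mul_one]

theorem psp (m : ℕ) (hm : 2 ≤ m) : Bound p (Nat.card (Cfsg.PSp m F)) := by
  obtain ⟨f, hf, hq⟩ := exists_field_card (p := p) (F := F)
  have hp := prime_char F (p := p)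
  haveI := Fact.mk hp
  have h1 := one_lt_q hp hf hq
  have hd : ¬ p ∣ Nat.card (Subgroup.center (Matrix.symplecticGroup (Fin m) F)) := by
    intro hdvd
    obtain ⟨z, hz⟩ := exists_prime_orderOf_dvd_card' p hdvd
    obtain ⟨c, hc⟩ := (CfsgLib.FormRep.Symplectic.center_iff z.1).1 z.2
    have hzp : ((z.1 : Matrix (Fin m ⊕ Fin m) (Fin m ⊕ Fin m) F)) ^ p = 1 := by
      have := congrArg (fun y : Subgroup.center (Matrix.symplecticGroup (Fin m) F) =>
        ((y : Matrix.symplecticGroup (Fin m) F) : Matrix (Fin m ⊕ Fin m) (Fin m ⊕ Fin m) F))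
        (pow_orderOf_eq_one z)
      rw [hz] at this
      simpa using this
    rw [hc, smul_pow, one_pow] at hzp
    have i : Fin m := ⟨0, by omega⟩
    have hcp : c ^ p = 1 := by
      have := congrFun (congrFun hzp (.inl i)) (.inl i)
      simpa using this
    have hc1 : c = 1 := by
      have h2 : (c - 1) ^ p = 0 := by rw [sub_pow_char, one_pow, hcp, sub_self]
      exact sub_eq_zero.1 ((pow_eq_zero_iff hp.ne_zero).1 h2)
    have : z = 1 := Subtype.ext (Subtype.ext (by rw [hc, hc1, one_smul]; rfl))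
    rw [this, orderOf_one] at hz
    exact hp.one_lt.ne hz
  have h := Subgroup.card_eq_card_quotient_mul_card_subgroup
    (Subgroup.center (Matrix.symplecticGroup (Fin m) F))
  rw [CfsgLib.Classical.SympTrans.card_symplectic, Nat.card_eq_fintype_card (α := F), mul_comm _ (Nat.card ↥(Subgroup.center _))] at h
  have hring : m * m = m ^ 2 ∧ 2 * m ≤ m * m := ⟨by ring, Nat.mul_le_mul_right m hm⟩
  exact bound_of_formula hp hf hq hd (not_dvd_prod hp fun i _ => not_dvd_sub_one hp hf hq (by omega))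
    h.symm (prod_sub_one_lt (one_lt_q hp hf hq) (Finset.nonempty_range_iff.2 (by omega)))
    (by rw [two_sum_evens, mul_add, mul_one]; omega) (by rw [two_sum_evens, mul_add, mul_one]; omega)

theorem psu {q : ℕ} (hF : Fintype.card F = q ^ 2) (n : ℕ) (hn : 3 ≤ n) :
    Bound p (Nat.card (Cfsg.PSU n F q)) := by
  obtain ⟨f, hf, hq⟩ := exists_root_card (p := p) two_ne_zero hF
  have hp := prime_char F (p := p)
  have h1 := one_lt_q hp hf hq
  have h := Cfsg.Agent.S0280.result hF n (by omega)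
  obtain ⟨k, rfl⟩ : ∃ k, n = k + 1 := ⟨n - 1, by omega⟩
  rw [Finset.prod_range_succ', if_pos Even.zero, zero_add, pow_one, ← mul_assoc,
    mul_comm (Nat.gcd _ _), mul_assoc, ← mul_assoc (q ^ _), mul_comm _ (q + 1),
    mul_left_cancel_iff_of_pos (by omega : 0 < q + 1)] at h
  have hd : ¬ p ∣ Nat.gcd (k + 1) (q + 1) := by
    refine not_dvd_gcd _ ?_
    have := not_dvd_add_one hp hf hq (i := 1) le_rfl
    rwa [pow_one] at this
  have hM : ¬ p ∣ ∏ i ∈ range k,
      (if Even (i + 1) then q ^ (i + 1 + 1) + 1 else q ^ (i + 1 + 1) - 1) :=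
    not_dvd_prod hp fun i _ => by
      split_ifs
      exacts [not_dvd_add_one hp hf hq (by omega), not_dvd_sub_one hp hf hq (by omega)]
  have hlt := prod_unitary_lt h1 k (by omega)
  have hS := two_mul_sum_shift k
  obtain ⟨j, rfl⟩ : ∃ j, k = j + 2 := ⟨k - 2, by omega⟩
  have hC : 2 * ((j + 2 + 1) * (j + 2 + 1 - 1) / 2) = j * j + 5 * j + 6 := by
    rw [Nat.add_sub_cancel, Nat.mul_div_cancel']
    · ring
    · exact (Nat.even_mul_succ_self (j + 2)).two_dvd.trans (dvd_of_eq (mul_comm _ _))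
  have hring : (j + 2) * (j + 2 + 3) = j * j + 7 * j + 10 := by ring
  have := Nat.zero_le (j * j)
  exact bound_of_formula hp hf hq hd hM h hlt (by omega) (by omega)

theorem pomega_odd (hodd : Odd (Fintype.card F)) (m : ℕ) (hm : 3 ≤ m) :
    Bound p (Nat.card (Cfsg.POmega F (Cfsg.quadFormOdd m F))) := by
  obtain ⟨f, hf, hq⟩ := exists_field_card (p := p) (F := F)
  have hp := prime_char F (p := p)
  have hd : ¬ p ∣ 2 := fun h => by
    obtain rfl := (Nat.prime_dvd_prime_iff_eq hp Nat.prime_two).1 h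
    rw [hq] at hodd
    exact (Nat.not_even_iff_odd.2 hodd) ((Nat.even_pow).2 ⟨even_two, by omega⟩)
  have hring : m * m = m ^ 2 ∧ 3 * m ≤ m * m := ⟨by ring, Nat.mul_le_mul_right m hm⟩
  exact bound_of_formula hp hf hq hd (not_dvd_prod hp fun i _ => not_dvd_sub_one hp hf hq (by omega))
    (Cfsg.Agent.S0292.result rfl hodd m hm)
    (prod_sub_one_lt (one_lt_q hp hf hq) (Finset.nonempty_range_iff.2 (by omega)))
    (by rw [two_sum_evens, mul_add, mul_one]; omega) (by rw [two_sum_evens, mul_add, mul_one]; omega)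

theorem pomega_plus (m : ℕ) (hm : 4 ≤ m) :
    Bound p (Nat.card (Cfsg.POmega F (Cfsg.quadFormPlus m F))) := by
  obtain ⟨f, hf, hq⟩ := exists_field_card (p := p) (F := F)
  have hp := prime_char F (p := p)
  have h := Cfsg.Agent.S0293.result (F := F) rfl m hm
  rw [mul_assoc] at h
  obtain ⟨k, rfl⟩ : ∃ k, m = k + 1 := ⟨m - 1, by omega⟩
  have h1 := one_lt_q hp hf hq
  refine bound_of_formula hp hf hq (not_dvd_gcd _ (not_dvd_sub_one hp hf hq (by omega)))
    (not_dvd_mul hp (not_dvd_sub_one hp hf hq (by omega))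
      (not_dvd_prod hp fun i _ => not_dvd_sub_one hp hf hq (by omega))) h
    (E := (k + 1) + ∑ i ∈ range k, 2 * (i + 1)) ?_ ?_ ?_
  · rw [Nat.add_sub_cancel, pow_add _ (k + 1) (∑ i ∈ range k, 2 * (i + 1))]
    exact Nat.mul_lt_mul_of_lt_of_le (sub_one_lt h1 _) (prod_sub_one_le h1) (pow_pos (by omega) _)
  all_goals
    rw [two_sum_evens, Nat.add_sub_cancel, mul_comm k (k + 1)]
    have : 4 * k ≤ (k + 1) * k := Nat.mul_le_mul_right k (by omega)
    omega

theorem pomega_minus (m : ℕ) (hm : 4 ≤ m) (a b : F)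
    (hab : ∀ z₁ z₂ : F, z₁ ^ 2 + a * z₁ * z₂ + b * z₂ ^ 2 = 0 → z₁ = 0 ∧ z₂ = 0) :
    Bound p (Nat.card (Cfsg.POmega F (Cfsg.quadFormMinus (m - 1) F a b))) := by
  obtain ⟨f, hf, hq⟩ := exists_field_card (p := p) (F := F)
  have hp := prime_char F (p := p)
  have h := Cfsg.Agent.S0294.result (F := F) rfl m hm a b hab
  rw [mul_assoc] at h
  have h1 := one_lt_q hp hf hq
  refine bound_of_formula hp hf hq (not_dvd_gcd _ (not_dvd_add_one hp hf hq (by omega)))
    (not_dvd_mul hp (not_dvd_add_one hp hf hq (by omega))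
      (not_dvd_prod hp fun i _ => not_dvd_sub_one hp hf hq (by omega))) h
    (E := m + ∑ i ∈ range (m - 1), 2 * (i + 1)) ?_ ?_ ?_
  · obtain ⟨k, hk⟩ : ∃ k, m - 1 = k + 1 := ⟨m - 2, by omega⟩
    rw [hk, Finset.prod_range_succ', Finset.sum_range_succ', zero_add, mul_one, mul_left_comm,
      show m + (∑ i ∈ range k, 2 * (i + 1 + 1) + 2) = ∑ i ∈ range k, 2 * (i + 1 + 1) + (m + 2) by ring,
      pow_add]
    exact Nat.mul_lt_mul_of_le_of_lt (prod_sub_one_le h1) (pair_lt h1 (by omega)) (pow_pos (by omega) _)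
  all_goals
    obtain ⟨k, rfl⟩ : ∃ k, m = k + 1 := ⟨m - 1, by omega⟩
    rw [two_sum_evens, Nat.add_sub_cancel, mul_comm k (k + 1)]
    have : 4 * k ≤ (k + 1) * k := Nat.mul_le_mul_right k (by omega)
    omega

/-- A bound with a product of `q ^ e - 1` over a list. -/
theorem of_list {q f d g N : ℕ} (hp : p.Prime) (hf : 1 ≤ f) (hq : q = p ^ f) (hd : ¬ p ∣ d)
    (l : List ℕ) (hne : l ≠ []) (hl : ∀ e ∈ l, 1 ≤ e)
    (h : d * g = q ^ N * (l.map fun e => q ^ e - 1).prod)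
    (h2 : l.sum ≤ 2 * N) (h3 : 3 * l.sum ≤ 5 * N) : Bound p g := by
  rw [← Fin.prod_univ_fun_getElem] at h
  rw [← Fin.sum_univ_getElem] at h2 h3
  have : NeZero l.length := ⟨by simpa using hne⟩
  exact bound_of_formula hp hf hq hd
    (not_dvd_prod hp fun i _ => not_dvd_sub_one hp hf hq (hl _ (List.getElem_mem i.isLt))) h
    (prod_sub_one_lt (one_lt_q hp hf hq) Finset.univ_nonempty) h2 h3

theorem chev_g2 : Bound p (Nat.card ↥(Cfsg.Lie.chevG2.group F)) := by
  obtain ⟨f, hf, hq⟩ := exists_field_card (p := p) (F := F)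
  have hp := prime_char F (p := p)
  refine of_list (N := 6) hp hf hq (d := 1) hp.not_dvd_one [2, 6] (by simp) (by simp) ?_ (by simp) (by simp)
  rw [one_mul, Cfsg.Agent.S1059.result rfl]
  simp [mul_assoc]

theorem chev_f4 : Bound p (Nat.card ↥(Cfsg.Lie.chevF4.group F)) := by
  obtain ⟨f, hf, hq⟩ := exists_field_card (p := p) (F := F)
  have hp := prime_char F (p := p)
  refine of_list (N := 24) hp hf hq (d := 1) hp.not_dvd_one [2, 6, 8, 12] (by simp) (by simp) ?_ (by simp) (by simp)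
  rw [one_mul, Cfsg.Agent.S1062.result rfl]
  simp [mul_assoc]

theorem chev_e6 : Bound p (Nat.card ↥(Cfsg.Lie.chevE6.group F)) := by
  obtain ⟨f, hf, hq⟩ := exists_field_card (p := p) (F := F)
  have hp := prime_char F (p := p)
  have hd := not_dvd_gcd 3 (not_dvd_sub_one hp hf hq (i := 1) le_rfl)
  rw [pow_one] at hd
  refine of_list (N := 36) hp hf hq hd [2, 5, 6, 8, 9, 12] (by simp) (by simp) ?_ (by simp) (by simp)
  rw [Cfsg.Agent.S1063.result rfl]
  simp [mul_assoc]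

theorem chev_e7 : Bound p (Nat.card ↥(Cfsg.Lie.chevE7.group F)) := by
  obtain ⟨f, hf, hq⟩ := exists_field_card (p := p) (F := F)
  have hp := prime_char F (p := p)
  have hd := not_dvd_gcd 2 (not_dvd_sub_one hp hf hq (i := 1) le_rfl)
  rw [pow_one] at hd
  refine of_list (N := 63) hp hf hq hd [2, 6, 8, 10, 12, 14, 18] (by simp) (by simp) ?_ (by simp) (by simp)
  rw [Cfsg.Agent.S1064.result rfl]
  simp [mul_assoc]

theorem chev_e8 : Bound p (Nat.card ↥(Cfsg.Lie.chevE8.group F)) := by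
  obtain ⟨f, hf, hq⟩ := exists_field_card (p := p) (F := F)
  have hp := prime_char F (p := p)
  refine of_list (N := 120) hp hf hq (d := 1) hp.not_dvd_one [2, 8, 12, 14, 18, 20, 24, 30] (by simp) (by simp) ?_ (by simp) (by simp)
  rw [one_mul, Cfsg.Agent.S1065.result rfl]
  simp [mul_assoc]

theorem twisted_e6 {q : ℕ} (hq₀ : IsPrimePow q) (hF : Fintype.card F = q ^ 2) :
    Bound p (Nat.card ↥(Cfsg.Lie.twistedE6 F q)) := by
  obtain ⟨f, hf, hq⟩ := exists_root_card (p := p) two_ne_zero hF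
  have hp := prime_char F (p := p)
  have h1 := one_lt_q hp hf hq
  have hd := not_dvd_gcd 3 (not_dvd_add_one hp hf hq (i := 1) le_rfl)
  rw [pow_one] at hd
  refine bound_of_formula (N := 36) (E := 42)
    (M := ((q ^ 5 + 1) * (q ^ 2 - 1)) * (((q ^ 9 + 1) * (q ^ 8 - 1)) * ((q ^ 6 - 1) * (q ^ 12 - 1))))
    hp hf hq hd ?_ ?_ ?_ (by norm_num) (by norm_num)
  · exact not_dvd_mul hp
      (not_dvd_mul hp (not_dvd_add_one hp hf hq (by norm_num)) (not_dvd_sub_one hp hf hq (by norm_num)))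
      (not_dvd_mul hp
        (not_dvd_mul hp (not_dvd_add_one hp hf hq (by norm_num)) (not_dvd_sub_one hp hf hq (by norm_num)))
        (not_dvd_mul hp (not_dvd_sub_one hp hf hq (by norm_num)) (not_dvd_sub_one hp hf hq (by norm_num))))
  · rw [Cfsg.Agent.S1066.result hq₀ hF]; ring
  · rw [show q ^ 42 = q ^ (5 + 2) * (q ^ (9 + 8) * (q ^ 6 * q ^ 12)) by ring]
    exact Nat.mul_lt_mul_of_lt_of_le (pair_lt h1 (by norm_num))
      (Nat.mul_le_mul (pair_lt h1 (by norm_num)).le (Nat.mul_le_mul (Nat.sub_le _ _) (Nat.sub_le _ _)))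
      (by positivity)

theorem twisted_d4 {q : ℕ} (hq₀ : IsPrimePow q) (hF : Fintype.card F = q ^ 3) :
    Bound p (Nat.card ↥(Cfsg.Lie.twistedD4 F q)) := by
  obtain ⟨f, hf, hq⟩ := exists_root_card (p := p) (by norm_num : (3 : ℕ) ≠ 0) hF
  have hp := prime_char F (p := p)
  have h1 := one_lt_q hp hf hq
  refine bound_of_formula (N := 12) (E := 18) (M := (q ^ 2 - 1) * ((q ^ 6 - 1) * (q ^ 8 + q ^ 4 + 1)))
    hp hf hq (d := 1) hp.not_dvd_one ?_ ?_ ?_ (by norm_num) (by norm_num)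
  · refine not_dvd_mul hp (not_dvd_sub_one hp hf hq (by norm_num)) (not_dvd_mul hp
      (not_dvd_sub_one hp hf hq (by norm_num)) fun h => ?_)
    have hd : p ∣ q := by rw [hq]; exact dvd_pow_self p (by omega)
    exact hp.not_dvd_one ((Nat.dvd_add_iff_right
      (dvd_add (hd.trans (dvd_pow_self q (by norm_num : (8 : ℕ) ≠ 0)))
        (hd.trans (dvd_pow_self q (by norm_num : (4 : ℕ) ≠ 0))))).2 h)
  · rw [one_mul, Cfsg.Agent.S1067.result hq₀ hF]; ring
  · have h8 : q ^ 8 + q ^ 4 + 1 ≤ q ^ 10 := by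
      have e1 : q ^ 4 ≤ q ^ 8 := Nat.pow_le_pow_right h1.le (by norm_num)
      have e2 : 1 ≤ q ^ 8 := Nat.one_le_pow _ _ (by omega)
      have e3 : 4 * q ^ 8 ≤ q ^ 10 := by
        rw [show 10 = 2 + 8 by rfl, pow_add]
        exact Nat.mul_le_mul_right _ (by nlinarith)
      omega
    calc (q ^ 2 - 1) * ((q ^ 6 - 1) * (q ^ 8 + q ^ 4 + 1))
        < q ^ 2 * (q ^ 6 * q ^ 10) := Nat.mul_lt_mul_of_lt_of_le (sub_one_lt h1 _)
          (Nat.mul_le_mul (Nat.sub_le _ _) h8) (by positivity)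
      _ = q ^ 18 := by ring

omit [Fintype F] [CharP F p] in
theorem suzuki [Fintype F] {m : ℕ} (hm : 1 ≤ m) (hF : Fintype.card F = 2 ^ (2 * m + 1)) :
    Bound 2 (Nat.card ↥(Cfsg.Lie.Sz F (2 ^ (m + 1)))) := by
  haveI := CfsgLib.Suzuki.charP_two_of_card hF
  haveI : CfsgLib.Suzuki.Param F m := ⟨hm, hF⟩
  rw [← Nat.card_congr (CfsgLib.Suzuki.lieEquiv F m).toEquiv, CfsgLib.Suzuki.natCard_group, hF]
  obtain ⟨q, hq⟩ : ∃ q, q = 2 ^ (2 * m + 1) := ⟨_, rfl⟩
  rw [← hq]
  have hp := Nat.prime_two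
  have h1 := one_lt_q hp (by omega) hq
  have hd := not_dvd_sub_one hp (by omega) hq (i := 1) le_rfl
  rw [pow_one] at hd
  refine bound_of_formula (N := 2) (E := 3) (M := (q ^ 2 + 1) * (q - 1)) hp (by omega) hq (d := 1)
    hp.not_dvd_one (not_dvd_mul hp (not_dvd_add_one hp (by omega) hq (by norm_num)) hd) (by ring) ?_
    (by norm_num) (by norm_num)
  have := pair_lt h1 (show 1 ≤ 2 by norm_num)
  rwa [pow_one] at this

omit [Fintype F] [CharP F p] in
theorem twisted_g2 [Fintype F] {m : ℕ} (hF : Fintype.card F = 3 ^ (2 * m + 1)) :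
    Bound 3 (Nat.card ↥(Cfsg.Lie.twistedG2 F (3 ^ m))) := by
  rw [Cfsg.Agent.S1069.result hF]
  obtain ⟨q, hq⟩ : ∃ q, q = 3 ^ (2 * m + 1) := ⟨_, rfl⟩
  rw [← hq]
  have hp := Nat.prime_three
  have h1 := one_lt_q hp (by omega) hq
  have hd := not_dvd_sub_one hp (by omega) hq (i := 1) le_rfl
  rw [pow_one] at hd
  refine bound_of_formula (N := 3) (E := 4) (M := (q ^ 3 + 1) * (q - 1)) hp (by omega) hq (d := 1)
    hp.not_dvd_one (not_dvd_mul hp (not_dvd_add_one hp (by omega) hq (by norm_num)) hd) (by ring) ?_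
    (by norm_num) (by norm_num)
  have := pair_lt h1 (show 1 ≤ 3 by norm_num)
  rwa [pow_one] at this

omit [Fintype F] [CharP F p] in
theorem twisted_f4 [Fintype F] {m : ℕ} (hF : Fintype.card F = 2 ^ (2 * m + 1)) :
    Bound 2 (Nat.card ↥(Cfsg.Lie.twistedF4 F (2 ^ m))) := by
  rw [Cfsg.Agent.S1068.result hF]
  obtain ⟨q, hq⟩ : ∃ q, q = 2 ^ (2 * m + 1) := ⟨_, rfl⟩
  rw [← hq]
  have hp := Nat.prime_two
  have h1 := one_lt_q hp (by omega) hq
  have hd := not_dvd_sub_one hp (by omega) hq (i := 1) le_rfl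
  rw [pow_one] at hd
  refine bound_of_formula (N := 12) (E := 14) (M := ((q ^ 3 + 1) * (q - 1)) * ((q ^ 6 + 1) * (q ^ 4 - 1))) hp
    (by omega) hq (d := 1) hp.not_dvd_one
    (not_dvd_mul hp (not_dvd_mul hp (not_dvd_add_one hp (by omega) hq (by norm_num)) hd)
      (not_dvd_mul hp (not_dvd_add_one hp (by omega) hq (by norm_num))
        (not_dvd_sub_one hp (by omega) hq (by norm_num)))) (by ring) ?_ (by norm_num) (by norm_num)
  have e1 := pair_lt h1 (show 1 ≤ 3 by norm_num)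
  have e2 := pair_lt h1 (show 4 ≤ 6 by norm_num)
  rw [pow_one] at e1
  rw [show (14 : ℕ) = (3 + 1) + (6 + 4) by rfl, pow_add]
  exact Nat.mul_lt_mul_of_lt_of_le e1 e2.le (by positivity)

end CfsgLib.LieOrderBound
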